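import Groth.Agent.Lib.Helper5.Geom.Deriv
import Groth.Agent.Lib.Helper5.Tate.Expansion

/-! The coefficient field of an expansion of a geometric function field is separable over the
constants (helper5). -/

set_option autoImplicit false

universe u v w

namespace FunFld
namespace Geom

open LocRes WithZero LaurentSeries HahnSeries Tate.Laurent

variable {k : Type u} {K : Type v} [Field k] [Field K] [Algebra k K]
variable {F : Type w} [Field F] [Algebra k F]

/-- Coefficientwise application of a derivation of the coefficient field. -/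
noncomputable def cw (δ₀ : Derivation k F F) (f : F⸨X⸩) : F⸨X⸩ := f.map δ₀

lemma cw_coeff (δ₀ : Derivation k F F) (f : F⸨X⸩) (n : ℤ) :
    (cw δ₀ f).coeff n = δ₀ (f.coeff n) := rfl

lemma cw_add (δ₀ : Derivation k F F) (f g : F⸨X⸩) : cw δ₀ (f + g) = cw δ₀ f + cw δ₀ g := by
  ext n
  rw [HahnSeries.coeff_add, cw_coeff, cw_coeff, cw_coeff, HahnSeries.coeff_add, map_add]

lemma cw_sub (δ₀ : Derivation k F F) (f g : F⸨X⸩) : cw δ₀ (f - g) = cw δ₀ f - cw δ₀ g := by
  ext n
  rw [HahnSeries.coeff_sub, cw_coeff, cw_coeff, cw_coeff, HahnSeries.coeff_sub, map_sub]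

lemma cw_smul (δ₀ : Derivation k F F) (c : k) (f : F⸨X⸩) : cw δ₀ (c • f) = c • cw δ₀ f := by
  ext n
  rw [HahnSeries.coeff_smul, cw_coeff, cw_coeff, HahnSeries.coeff_smul, Derivation.map_smul]

lemma cw_single (δ₀ : Derivation k F F) (n : ℤ) (a : F) :
    cw δ₀ (single n a) = single n (δ₀ a) := by
  ext m
  rw [cw_coeff, HahnSeries.coeff_single, HahnSeries.coeff_single]
  split_ifs
  · rfl
  · exact map_zero _

lemma cw_one (δ₀ : Derivation k F F) : cw δ₀ (1 : F⸨X⸩) = 0 := by
  have : (1 : F⸨X⸩) = single 0 1 := rfl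
  rw [this, cw_single, Derivation.map_one_eq_zero, HahnSeries.single_eq_zero]

lemma cw_mul (δ₀ : Derivation k F F) (f g : F⸨X⸩) :
    cw δ₀ (f * g) = f * cw δ₀ g + g * cw δ₀ f := by
  obtain ⟨a, ha⟩ := exists_bound f
  obtain ⟨b, hb⟩ := exists_bound g
  have ha' : ∀ i : ℤ, i < -(a : ℤ) → (cw δ₀ f).coeff i = 0 := fun i hi => by
    rw [cw_coeff, ha i hi, map_zero]
  have hb' : ∀ i : ℤ, i < -(b : ℤ) → (cw δ₀ g).coeff i = 0 := fun i hi => by
    rw [cw_coeff, hb i hi, map_zero]
  ext m
  rw [cw_coeff, HahnSeries.coeff_add, coeff_mul_eq_sum_Ico ha hb m,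
    coeff_mul_eq_sum_Ico ha hb' m, mul_comm g, coeff_mul_eq_sum_Ico ha' hb m, map_sum,
    ← Finset.sum_add_distrib]
  refine Finset.sum_congr rfl (fun i _ => ?_)
  rw [Derivation.leibniz, cw_coeff, cw_coeff, smul_eq_mul, smul_eq_mul]
  ring

/-- Coefficientwise maps do not increase the valuation. -/
lemma v_cw_le (δ₀ : Derivation k F F) (f : F⸨X⸩) (N : ℤ) (h : Valued.v f ≤ exp (-N)) :
    Valued.v (cw δ₀ f) ≤ exp (-N) := by
  rw [LaurentSeries.valuation_le_iff_coeff_lt_eq_zero F] at h ⊢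
  intro n hn
  rw [cw_coeff, h n hn, map_zero]

/-- Differentiation lowers the order by at most one. -/
lemma v_D_le (f : F⸨X⸩) (N : ℤ) (h : Valued.v f ≤ exp (-N)) :
    Valued.v (LocRes.D F f) ≤ exp (-(N - 1)) := by
  rw [LaurentSeries.valuation_le_iff_coeff_lt_eq_zero F] at h ⊢
  intro n hn
  rw [D_coeff, h (n + 1) (by omega), smul_zero]

lemma D_single_one : LocRes.D F (single 1 (1 : F)) = 1 := by
  ext n
  rw [D_coeff, HahnSeries.coeff_single, HahnSeries.coeff_one]
  by_cases hn : n = 0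
  · subst hn
    simp
  · rw [if_neg (by omega), if_neg hn, smul_zero]

/-- The derivation `a ↦ δ₀(φ a)` (coefficientwise). -/
noncomputable def cwExp (φ : K →ₐ[k] F⸨X⸩) (δ₀ : Derivation k F F) :
    letI := φ.toRingHom.toAlgebra
    Derivation k K F⸨X⸩ :=
  letI := φ.toRingHom.toAlgebra
  { toFun := fun a => cw δ₀ (φ a)
    map_add' := fun a b => show cw δ₀ (φ (a + b)) = cw δ₀ (φ a) + cw δ₀ (φ b) by
      rw [map_add, cw_add]
    map_smul' := fun c a => show cw δ₀ (φ (c • a)) = c • cw δ₀ (φ a) by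
      rw [← expLin_apply, map_smul, expLin_apply, cw_smul]
    map_one_eq_zero' := show cw δ₀ (φ 1) = 0 by rw [map_one, cw_one]
    leibniz' := fun a b => show cw δ₀ (φ (a * b)) = φ a * cw δ₀ (φ b) + φ b * cw δ₀ (φ a) by
      rw [map_mul, cw_mul] }

theorem cw_expansion_eq (φ : K →ₐ[k] F⸨X⸩) (δ₀ : Derivation k F F) {a x r : K}
    (h : KaehlerDifferential.D k K a = r • KaehlerDifferential.D k K x) :
    cw δ₀ (φ a) = φ r * cw δ₀ (φ x) := by
  letI := φ.toRingHom.toAlgebra
  haveI : IsScalarTower k K F⸨X⸩ := isScalarTower_exp φ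
  exact derivation_apply_eq_smul h (cwExp φ δ₀)

section approx

variable {P : Place k K} {φ : K →ₐ[k] F⸨X⸩} (hφ : LocRes.IsExpansionAt P.1 φ)

include hφ in
/-- Density, to any order. -/
lemma exists_approx_pow (y : F⸨X⸩) (N : ℤ) : ∃ z : K, Valued.v (φ z - y) ≤ exp (-N) := by
  obtain ⟨t, ht⟩ := P.exists_v_eq (-N)
  have hφt : Valued.v (φ t) = exp (-N) := by rw [hφ.1, ht]
  have hφt0 : φ t ≠ 0 := by
    intro h0
    rw [h0, map_zero] at hφt
    exact exp_ne_zero hφt.symm
  obtain ⟨x', hx'⟩ := exists_sub_mem_Lplus hφ (y * (φ t)⁻¹)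
  rw [mem_Lplus_iff] at hx'
  refine ⟨x' * t, ?_⟩
  have : φ (x' * t) - y = -((y * (φ t)⁻¹ - φ x') * φ t) := by
    rw [map_mul, sub_mul, mul_assoc, inv_mul_cancel₀ hφt0, mul_one]
    ring
  rw [this, Valuation.map_neg, map_mul, hφt]
  calc Valued.v (y * (φ t)⁻¹ - φ x') * exp (-N) ≤ 1 * exp (-N) := mul_le_mul_left hx' _
    _ = exp (-N) := one_mul _

end approx

/-- **(G2), derivation form**: the coefficient field of an expansion of a geometric function field
has no nonzero derivations over the constants. -/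
theorem derivation_coeffField_eq_zero (hK : IsFunctionField k K) (hg : IsGeometric k K) {x : K}
    (hx : KaehlerDifferential.D k K x ≠ 0) {P : Place k K} {φ : K →ₐ[k] F⸨X⸩}
    (hφ : LocRes.IsExpansionAt P.1 φ) (δ₀ : Derivation k F F) : δ₀ = 0 := by
  have hDx : LocRes.D F (φ x) ≠ 0 := D_expansion_ne_zero hK hg hx hφ
  have cross : ∀ a : K, cw δ₀ (φ a) * LocRes.D F (φ x) = LocRes.D F (φ a) * cw δ₀ (φ x) := by
    intro a
    obtain ⟨r, hr⟩ := exists_D_eq_smul hK hg hx a
    rw [cw_expansion_eq φ δ₀ hr, D_expansion_eq φ hr]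
    ring
  have hcwx : cw δ₀ (φ x) = 0 := by
    by_contra hne
    have hv1 : Valued.v (LocRes.D F (φ x)) ≠ 0 := (Valuation.ne_zero_iff _).mpr hDx
    have hv2 : Valued.v (cw δ₀ (φ x)) ≠ 0 := (Valuation.ne_zero_iff _).mpr hne
    obtain ⟨d, hd⟩ : ∃ d : ℤ, Valued.v (LocRes.D F (φ x)) = exp d := ⟨_, (exp_log hv1).symm⟩
    obtain ⟨m, hm⟩ : ∃ m : ℤ, Valued.v (cw δ₀ (φ x)) = exp m := ⟨_, (exp_log hv2).symm⟩
    set N : ℤ := ((d - m).toNat : ℤ) + 2 with hN
    have hN2 : 2 ≤ N := by omega
    have hNdm : d - m < N := by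
      have := Int.self_le_toNat (d - m)
      omega
    obtain ⟨z, hz⟩ := exists_approx_pow hφ (single 1 (1 : F)) N
    set e := φ z - single 1 (1 : F) with he
    have hφz : φ z = e + single 1 (1 : F) := by rw [he]; ring
    have h1 : Valued.v (cw δ₀ (φ z)) ≤ exp (-N) := by
      have : cw δ₀ (φ z) = cw δ₀ e := by
        rw [hφz, cw_add, cw_single, Derivation.map_one_eq_zero, HahnSeries.single_eq_zero,
          add_zero]
      rw [this]
      exact v_cw_le δ₀ e N hz
    have h2 : Valued.v (LocRes.D F (φ z)) = 1 := by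
      have : LocRes.D F (φ z) = LocRes.D F e + 1 := by
        rw [hφz, map_add, D_single_one]
      rw [this]
      have hlt : Valued.v (LocRes.D F e) < Valued.v (1 : F⸨X⸩) := by
        rw [Valuation.map_one]
        refine lt_of_le_of_lt (v_D_le e N hz) ?_
        rw [← exp_zero, exp_lt_exp]
        omega
      rw [Valuation.map_add_eq_of_lt_right _ hlt, Valuation.map_one]
    have h3 := congrArg (Valued.v (R := F⸨X⸩)) (cross z)
    rw [map_mul, map_mul, h2, one_mul, hd, hm] at h3
    have h4 : exp m ≤ exp (-N) * exp d := by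
      rw [← h3]
      exact mul_le_mul_left h1 _
    rw [← exp_add, exp_le_exp] at h4
    omega
  have hall : ∀ a : K, cw δ₀ (φ a) = 0 := by
    intro a
    have := cross a
    rw [hcwx, mul_zero] at this
    exact (mul_eq_zero.1 this).resolve_right hDx
  ext b
  obtain ⟨f, -, hf⟩ := hφ.2.1 b
  have := congrArg (fun y : F⸨X⸩ => y.coeff 0) (hall f)
  simp only [cw_coeff, hf] at this
  rw [this]
  rfl

/-- **(G2)** The coefficient field of an expansion of a geometric function field is separable over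
the constants. -/
theorem isSeparable_coeffField (hK : IsFunctionField k K) (hg : IsGeometric k K) {x : K}
    (hx : KaehlerDifferential.D k K x ≠ 0) {P : Place k K} {φ : K →ₐ[k] F⸨X⸩}
    (hφ : LocRes.IsExpansionAt P.1 φ) [FiniteDimensional k F] : Algebra.IsSeparable k F := by
  have hsub : Subsingleton (Ω[F⁄k]) := by
    by_contra hns
    rw [not_subsingleton_iff_nontrivial] at hns
    obtain ⟨ω, hω⟩ := exists_ne (0 : Ω[F⁄k])
    obtain ⟨ℓ, hℓ⟩ := Module.Projective.exists_dual_ne_zero F hω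
    let δ₀ : Derivation k F F := ℓ.compDer (KaehlerDifferential.D k F)
    have h0 : δ₀ = 0 := derivation_coeffField_eq_zero hK hg hx hφ δ₀
    have hℓ0 : ℓ = 0 := by
      have hspan := KaehlerDifferential.span_range_derivation k F
      apply LinearMap.ext_on hspan
      rintro _ ⟨a, rfl⟩
      have : δ₀ a = 0 := by rw [h0]; rfl
      exact this
    rw [hℓ0] at hℓ
    exact hℓ rfl
  have : Algebra.FormallyUnramified k F := ⟨hsub⟩
  exact Algebra.FormallyUnramified.isSeparable k F

/-- Nondegeneracy of the trace pairing of the coefficient field. -/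
theorem exists_trace_ne_zero (hK : IsFunctionField k K) (hg : IsGeometric k K) {x : K}
    (hx : KaehlerDifferential.D k K x ≠ 0) {P : Place k K} {φ : K →ₐ[k] F⸨X⸩}
    (hφ : LocRes.IsExpansionAt P.1 φ) [FiniteDimensional k F] (l : F) (hl : l ≠ 0) :
    ∃ c : F, Algebra.trace k F (c * l) ≠ 0 := by
  have := isSeparable_coeffField hK hg hx hφ
  have hnd := traceForm_nondegenerate k F
  by_contra hcon
  push Not at hcon
  apply hl
  apply hnd.1
  intro c
  rw [Algebra.traceForm_apply, mul_comm]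
  exact hcon c

end Geom
end FunFld
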