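import Groth.Agent.Lib.Helper5.Geom.PthPower
import Groth.Agent.Lib.Helper5.Geom.SepRes
import Groth.Agent.Lib.Helper5.FunFld.Geometric
import Groth.Agent.Lib.Helper5.FunFld.Approx
import Groth.Agent.Lib.Helper5.FunFld.LinSeries
import Groth.Agent.Lib.Helper5.SV.ExpandIso
import Mathlib.Algebra.Module.Submodule.Union

/-! A plane model whose coordinate span contains local parameters everywhere (helper5). -/

set_option autoImplicit false

universe u v

namespace FunFld
namespace Geom

open LocRes WithZero LaurentSeries HahnSeries IntermediateField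

variable {k : Type u} {K : Type v} [Field k] [Field K] [Algebra k K]

/-- At a place where `dx` has order zero and `x` is finite, `x - x(P)` is a local parameter. -/
lemma exists_sub_const_uniformizer {P : Place k K} (hdeg : P.deg = 1)
    {φ : K →ₐ[k] k⸨X⸩} (hφ : IsExpansionAt P.1 φ) {x : K} (hx1 : P.1 x ≤ 1)
    (hD : LocRes.D k (φ x) ≠ 0) (hord : LocRes.ordDiff φ 1 x = 0) :
    ∃ a : k, P.1 (x - algebraMap k K a) = exp (-1 : ℤ) := by
  obtain ⟨a, ha⟩ := P.exists_const_sub_lt hdeg hx1
  refine ⟨a, ?_⟩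
  set z := x - algebraMap k K a with hz
  have hDz : LocRes.D k (φ z) = LocRes.D k (φ x) := by
    rw [hz, map_sub, map_sub, LocRes.map_algebraMap, LocRes.D_apply k (HahnSeries.C _),
      LocRes.derivative_C, sub_zero]
  have hz0 : z ≠ 0 := by
    intro h0
    rw [h0, map_zero, map_zero] at hDz
    exact hD hDz.symm
  have hvz : P.1 z ≠ 0 := P.v_ne_zero hz0
  obtain ⟨l, hl⟩ : ∃ l : ℤ, P.1 z = exp l := ⟨_, (exp_log hvz).symm⟩
  have hl0 : l < 0 := by
    rw [hl, ← exp_zero, exp_lt_exp] at ha
    exact ha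
  rcases eq_or_lt_of_le (show l ≤ -1 by omega) with h | h
  · rw [hl, h]
  · exfalso
    have h1 : Valued.v (φ z) ≤ exp (-(2 : ℤ)) := by
      rw [hφ.1, hl, exp_le_exp]; omega
    have h2 := v_D_le (φ z) 2 h1
    rw [hDz] at h2
    have h3 : LocRes.vDiff φ 1 x ≠ 0 := by
      rw [LocRes.vDiff, map_one, one_mul]
      exact (Valuation.ne_zero_iff _).mpr hD
    have h4 : LocRes.vDiff φ 1 x = exp (-(LocRes.ordDiff φ 1 x)) := by
      rw [LocRes.ordDiff, neg_neg, exp_log h3]
    rw [hord, neg_zero] at h4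
    rw [LocRes.vDiff, map_one, one_mul] at h4
    rw [h4, exp_le_exp] at h2
    omega

/-- The subspace of functions vanishing to order at least two along a finite set of places. -/
def smallAt (S : Finset (Place k K)) : Submodule k K where
  carrier := {u | ∀ P ∈ S, P.1 u < exp (-1 : ℤ)}
  add_mem' {a b} ha hb P hP := lt_of_le_of_lt (P.1.map_add a b) (max_lt (ha P hP) (hb P hP))
  zero_mem' P _ := by rw [map_zero]; exact exp_pos
  smul_mem' c a ha P hP := by
    rw [Algebra.smul_def, map_mul]
    calc P.1 (algebraMap k K c) * P.1 a ≤ 1 * P.1 a := mul_le_mul_left (P.2.1 c) _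
      _ = P.1 a := one_mul _
      _ < _ := ha P hP

lemma mem_smallAt {S : Finset (Place k K)} {u : K} :
    u ∈ smallAt S ↔ ∀ P ∈ S, P.1 u < exp (-1 : ℤ) := Iff.rfl

/-- `smallAt S` generates `K` as a field: every element is a quotient. -/
lemma exists_quotient_smallAt {S : Finset (Place k K)} (hS : S.Nonempty) (z : K) :
    ∃ w : K, w ≠ 0 ∧ w ∈ smallAt S ∧ z * w ∈ smallAt S := by
  obtain ⟨w, hw⟩ := Place.exists_approx_eq S (fun _ => (0 : K))
    (fun P => -2 - ((log (P.1 z)).toNat : ℤ))
  simp only [sub_zero] at hw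
  refine ⟨w, ?_, ?_, ?_⟩
  · obtain ⟨P₀, hP₀⟩ := hS
    rintro rfl
    have := hw P₀ hP₀
    rw [map_zero] at this
    exact exp_ne_zero this.symm
  · intro P hP
    rw [hw P hP, exp_lt_exp]
    omega
  · intro P hP
    rw [map_mul, hw P hP]
    rcases eq_or_ne (P.1 z) 0 with h0 | h0
    · rw [h0, zero_mul]; exact exp_pos
    · obtain ⟨l, hl⟩ : ∃ l : ℤ, P.1 z = exp l := ⟨_, (exp_log h0).symm⟩
      rw [hl, log_exp, ← exp_add, exp_lt_exp]
      have := Int.self_le_toNat l
      omega

/-- An element of `smallAt S` generating `K` over `k(x)`. -/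
lemma exists_primitive_smallAt {S : Finset (Place k K)} (hS : S.Nonempty) {x : K}
    [Infinite k] [Finite (IntermediateField (adjoin k ({x} : Set K)) K)] :
    ∃ u ∈ smallAt S, ∀ L : IntermediateField (adjoin k ({x} : Set K)) K, u ∈ L → L = ⊤ := by
  let ι := {L : IntermediateField (adjoin k ({x} : Set K)) K // L ≠ ⊤}
  let p : ι → Submodule k (smallAt S) := fun L =>
    Submodule.comap (smallAt S).subtype ((L.1.restrictScalars k).toSubalgebra.toSubmodule)
  have hp : ∀ L : ι, p L ≠ ⊤ := by
    intro L hL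
    apply L.2
    have hUL : ∀ u ∈ smallAt S, u ∈ L.1 := by
      intro u hu
      have : (⟨u, hu⟩ : smallAt S) ∈ p L := hL ▸ Submodule.mem_top
      exact this
    rw [eq_top_iff]
    intro z _
    obtain ⟨w, hw0, hwU, hzwU⟩ := exists_quotient_smallAt hS z
    have h1 := hUL w hwU
    have h2 := hUL (z * w) hzwU
    have : z = z * w * w⁻¹ := by rw [mul_assoc, mul_inv_cancel₀ hw0, mul_one]
    rw [this]
    exact L.1.mul_mem h2 (L.1.inv_mem h1)
  obtain ⟨u, hu⟩ := Submodule.exists_forall_notMem_of_forall_ne_top p hp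
  refine ⟨u, u.2, fun L huL => ?_⟩
  by_contra hne
  exact hu ⟨L, hne⟩ huL

/-- **S11051**: for a separating variable `x` there is `y` with `K = k(x, y)` such that the span of
`1, x, y` contains a local parameter at every place. -/
theorem exists_generator_uniformizers [IsAlgClosed k] (hK : IsFunctionField k K) (x : K)
    (hsep : Algebra.IsSeparable (adjoin k ({x} : Set K)) K) :
    ∃ y : K, adjoin k ({x, y} : Set K) = ⊤ ∧
      ∀ P : Place k K, ∃ f ∈ Submodule.span k ({1, x, y} : Set K), P.1 f = exp (-1 : ℤ) := by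
  classical
  have hg : IsGeometric k K := isGeometric_of_perfectField k K hK
  have htr := transcendental_of_isSeparable hK hsep
  have hDx : KaehlerDifferential.D k K x ≠ 0 := D_ne_zero_of_isSeparable htr
  obtain ⟨Φ, hΦ⟩ := SV.exists_expansion_family hK
  have hv : ∀ P, LocRes.D k (Φ P x) ≠ 0 := fun P => D_expansion_ne_zero hK hg hDx (hΦ P)
  have hnd : ∀ (P : Place k K) (l : k), l ≠ 0 → ∃ c : k, Algebra.trace k k (c * l) ≠ 0 := by
    intro P l hl
    refine ⟨1, ?_⟩
    rw [one_mul, Algebra.trace_self_apply]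
    exact hl
  obtain ⟨-, hfin, -⟩ := omegaDiff_isDivOf hK (fun _ => k) Φ hΦ 1 x hnd one_ne_zero hv
  have hpole := finite_not_le_one hK x
  obtain ⟨P₀⟩ := nonempty_place hK
  obtain ⟨S, hSdef⟩ : ∃ S : Finset (Place k K), S = (hfin.union hpole).toFinset ∪ {P₀} := ⟨_, rfl⟩
  have hSne : S.Nonempty := ⟨P₀, by rw [hSdef]; simp⟩
  have hgood : ∀ P, P ∉ S → LocRes.ordDiff (Φ P) 1 x = 0 ∧ P.1 x ≤ 1 := by
    intro P hP
    rw [hSdef, Finset.mem_union, Set.Finite.mem_toFinset, Set.mem_union, not_or, not_or] at hP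
    constructor
    · by_contra h
      exact hP.1.1 h
    · by_contra h
      exact hP.1.2 h
  -- finiteness of intermediate fields
  have hfd : FiniteDimensional (adjoin k ({x} : Set K)) K := hK.finiteDimensional_adjoin htr
  have hfinI : Finite (IntermediateField (adjoin k ({x} : Set K)) K) :=
    Field.finite_intermediateField_of_exists_primitive_element _ _
      (Field.exists_primitive_element _ _)
  have hinf : Infinite k := IsAlgClosed.instInfinite
  -- local targets
  choose t ht using fun P : Place k K => P.exists_uniformizer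
  let z : Place k K → K := fun P => if P.1 x ≤ 1 then t P else x + t P
  obtain ⟨y₀, hy₀⟩ := Place.exists_approx S z (ε := exp (-1 : ℤ)) exp_ne_zero
  obtain ⟨u₁, hu₁U, hu₁⟩ := exists_primitive_smallAt (x := x) hSne
  -- the pigeonhole on `c`
  obtain ⟨c, c', hcc', hceq⟩ := Finite.exists_ne_map_eq_of_infinite
    (fun c : k => adjoin (adjoin k ({x} : Set K)) ({y₀ + c • u₁} : Set K))
  have hL : adjoin (adjoin k ({x} : Set K)) ({y₀ + c • u₁} : Set K) = ⊤ := by
    apply hu₁
    have h1 : y₀ + c • u₁ ∈ adjoin (adjoin k ({x} : Set K)) ({y₀ + c • u₁} : Set K) :=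
      mem_adjoin_simple_self _ _
    have h2 : y₀ + c' • u₁ ∈ adjoin (adjoin k ({x} : Set K)) ({y₀ + c • u₁} : Set K) := by
      rw [hceq]
      exact mem_adjoin_simple_self _ _
    have h3 : (c - c') • u₁ ∈ adjoin (adjoin k ({x} : Set K)) ({y₀ + c • u₁} : Set K) := by
      have : (c - c') • u₁ = (y₀ + c • u₁) - (y₀ + c' • u₁) := by rw [sub_smul]; ring
      rw [this]
      exact sub_mem h1 h2
    have h5 : (c - c')⁻¹ • ((c - c') • u₁) ∈
        (adjoin (adjoin k ({x} : Set K)) ({y₀ + c • u₁} : Set K)).restrictScalars k :=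
      IntermediateField.smul_mem
        ((adjoin (adjoin k ({x} : Set K)) ({y₀ + c • u₁} : Set K)).restrictScalars k) h3
    rw [smul_smul, inv_mul_cancel₀ (sub_ne_zero.2 hcc'), one_smul] at h5
    exact h5
  refine ⟨y₀ + c • u₁, ?_, ?_⟩
  · have := adjoin_adjoin_left k ({x} : Set K) ({y₀ + c • u₁} : Set K)
    rw [hL, restrictScalars_top, Set.singleton_union] at this
    exact this.symm
  · intro P
    by_cases hPS : P ∈ S
    · have hsmall : P.1 ((y₀ + c • u₁) - z P) < exp (-1 : ℤ) := by
        have : (y₀ + c • u₁) - z P = (y₀ - z P) + c • u₁ := by ring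
        rw [this]
        exact lt_of_le_of_lt (P.1.map_add _ _)
          (max_lt (hy₀ P hPS) ((smallAt S).smul_mem c hu₁U P hPS))
      by_cases hx1 : P.1 x ≤ 1
      · have hz : z P = t P := if_pos hx1
        rw [hz] at hsmall
        refine ⟨y₀ + c • u₁, Submodule.subset_span (by simp), ?_⟩
        have : y₀ + c • u₁ = ((y₀ + c • u₁) - t P) + t P := by ring
        rw [this, Valuation.map_add_eq_of_lt_right _ (by rw [ht P]; exact hsmall), ht P]
      · have hz : z P = x + t P := if_neg hx1
        rw [hz] at hsmall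
        refine ⟨(y₀ + c • u₁) - x, Submodule.sub_mem _ (Submodule.subset_span (by simp))
          (Submodule.subset_span (by simp)), ?_⟩
        have : (y₀ + c • u₁) - x = ((y₀ + c • u₁) - (x + t P)) + t P := by ring
        rw [this, Valuation.map_add_eq_of_lt_right _ (by rw [ht P]; exact hsmall), ht P]
    · obtain ⟨hord, hx1⟩ := hgood P hPS
      obtain ⟨a, ha⟩ := exists_sub_const_uniformizer (Place.deg_eq_one_of_isAlgClosed hK P)
        (hΦ P) hx1 (hv P) hord
      refine ⟨x - algebraMap k K a, ?_, ha⟩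
      rw [Algebra.algebraMap_eq_smul_one]
      exact Submodule.sub_mem _ (Submodule.subset_span (by simp))
        (Submodule.smul_mem _ _ (Submodule.subset_span (by simp)))

end Geom
end FunFld
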