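import Groth.Agent.Lib.Helper5.Geom.Sep
import Groth.Agent.Lib.Helper5.Tate.WeilDiff3

/-! Derivations of a geometric function field are determined by one value (helper5). -/

set_option autoImplicit false

universe u v w

namespace FunFld
namespace Geom

open LocRes WithZero

variable {k : Type u} {K : Type v} [Field k] [Field K] [Algebra k K]

/-- Along a separating element `x₀`, every differential is a multiple of `dx₀`. -/
theorem exists_D_eq_smul_of_formallyUnramified {x₀ : K}
    [Algebra.FormallyUnramified (Algebra.adjoin k ({x₀} : Set K)) K] (a : K) :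
    ∃ r : K, KaehlerDifferential.D k K a = r • KaehlerDifferential.D k K x₀ := by
  let N : Submodule K (Ω[K⁄k]) := Submodule.span K {KaehlerDifferential.D k K x₀}
  let δQ : Derivation k K (Ω[K⁄k] ⧸ N) := (N.mkQ).compDer (KaehlerDifferential.D k K)
  have h0 : δQ x₀ = 0 := by
    show N.mkQ (KaehlerDifferential.D k K x₀) = 0
    rw [Submodule.mkQ_apply, Submodule.Quotient.mk_eq_zero]
    exact Submodule.mem_span_singleton_self _
  have hz := SV.derivation_eq_zero_of_formallyUnramified δQ h0
  have ha : δQ a = 0 := by rw [hz]; rfl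
  have ha' : KaehlerDifferential.D k K a ∈ N := by
    have : N.mkQ (KaehlerDifferential.D k K a) = 0 := ha
    rwa [Submodule.mkQ_apply, Submodule.Quotient.mk_eq_zero] at this
  obtain ⟨r, hr⟩ := Submodule.mem_span_singleton.1 ha'
  exact ⟨r, hr.symm⟩

/-- In a geometric function field every differential is a multiple of `dx`, for `dx ≠ 0`. -/
theorem exists_D_eq_smul (hK : IsFunctionField k K) (hg : IsGeometric k K) {x : K}
    (hx : KaehlerDifferential.D k K x ≠ 0) (a : K) :
    ∃ r : K, KaehlerDifferential.D k K a = r • KaehlerDifferential.D k K x := by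
  obtain ⟨x₀, hx₀⟩ := exists_formallyUnramified_adjoin hK hg
  obtain ⟨c, hc⟩ := exists_D_eq_smul_of_formallyUnramified (k := k) (x₀ := x₀) x
  obtain ⟨r₀, hr₀⟩ := exists_D_eq_smul_of_formallyUnramified (k := k) (x₀ := x₀) a
  have hc0 : c ≠ 0 := by
    rintro rfl
    rw [zero_smul] at hc
    exact hx hc
  refine ⟨r₀ * c⁻¹, ?_⟩
  rw [hr₀, hc, smul_smul, mul_assoc, inv_mul_cancel₀ hc0, mul_one]

/-- Transport of a relation between differentials to any derivation. -/
theorem derivation_apply_eq_smul {M : Type*} [AddCommGroup M] [Module K M] [Module k M]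
    [IsScalarTower k K M] {a x r : K}
    (h : KaehlerDifferential.D k K a = r • KaehlerDifferential.D k K x)
    (δ : Derivation k K M) : δ a = r • δ x := by
  have h1 := congrArg δ.liftKaehlerDifferential h
  rwa [map_smul, Derivation.liftKaehlerDifferential_comp_D,
    Derivation.liftKaehlerDifferential_comp_D] at h1

/-- A derivation of a geometric function field killing an element with nonzero differential
vanishes. -/
theorem derivation_eq_zero (hK : IsFunctionField k K) (hg : IsGeometric k K) {x : K}
    (hx : KaehlerDifferential.D k K x ≠ 0) {M : Type*} [AddCommGroup M] [Module K M]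
    [Module k M] [IsScalarTower k K M] (δ : Derivation k K M) (hδ : δ x = 0) : δ = 0 := by
  ext a
  obtain ⟨r, hr⟩ := exists_D_eq_smul hK hg hx a
  rw [derivation_apply_eq_smul hr δ, hδ, smul_zero]
  rfl

end Geom
end FunFld

namespace FunFld
namespace Geom

open LocRes WithZero LaurentSeries

variable {k : Type u} {K : Type v} [Field k] [Field K] [Algebra k K]
variable {F : Type w} [Field F] [Algebra k F]

/-- A relation between differentials read through an expansion. -/
theorem D_expansion_eq (φ : K →ₐ[k] F⸨X⸩) {a x r : K}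
    (h : KaehlerDifferential.D k K a = r • KaehlerDifferential.D k K x) :
    LocRes.D F (φ a) = φ r * LocRes.D F (φ x) := by
  letI := φ.toRingHom.toAlgebra
  haveI : IsScalarTower k K F⸨X⸩ := isScalarTower_exp φ
  exact derivation_apply_eq_smul h (dExp φ)

/-- The expansion of a uniformizer has nonzero linear coefficient. -/
theorem coeff_one_ne_zero_of_v_eq {f : F⸨X⸩} (hf : Valued.v f = exp (-1 : ℤ)) :
    f.coeff 1 ≠ 0 := by
  intro h0
  have h1 : ∀ n : ℤ, n < 1 → f.coeff n = 0 :=
    (LaurentSeries.valuation_le_iff_coeff_lt_eq_zero F (D := 1) (f := f)).1 hf.le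
  have h2 : Valued.v f ≤ exp (-(2 : ℤ)) := by
    rw [LaurentSeries.valuation_le_iff_coeff_lt_eq_zero F]
    intro n hn
    rcases lt_or_eq_of_le (show n ≤ 1 by omega) with h | h
    · exact h1 n h
    · rw [h]; exact h0
  rw [hf, exp_le_exp] at h2
  omega

/-- **(G3)** The expansion of an element with nonzero differential has nonzero derivative. -/
theorem D_expansion_ne_zero (hK : IsFunctionField k K) (hg : IsGeometric k K) {x : K}
    (hx : KaehlerDifferential.D k K x ≠ 0) {w : Valuation K (WithZero (Multiplicative ℤ))}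
    {φ : K →ₐ[k] F⸨X⸩} (hφ : IsExpansionAt w φ) : LocRes.D F (φ x) ≠ 0 := by
  intro h0
  obtain ⟨t, ht⟩ := hφ.2.2
  obtain ⟨r, hr⟩ := exists_D_eq_smul hK hg hx t
  have h1 : LocRes.D F (φ t) = 0 := by rw [D_expansion_eq φ hr, h0, mul_zero]
  have h2 : (LocRes.D F (φ t)).coeff 0 = (φ t).coeff 1 := by
    rw [D_coeff]; simp
  have h3 : (φ t).coeff 1 ≠ 0 := coeff_one_ne_zero_of_v_eq (by rw [hφ.1, ht])
  apply h3
  rw [← h2, h1]
  rfl

end Geom
end FunFld
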