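import Groth.Agent.Lib.Helper5.Geom.SepRes
import Groth.Prelude.Def_W4bk4goldsch23Ext

/-! Different exponents read through expansions (helper5). -/

set_option autoImplicit false

universe u v w

namespace FunFld
namespace Geom

open LocRes WithZero LaurentSeries HahnSeries

variable {k : Type u} {K K' : Type v} [Field k] [Field K] [Field K'] [Algebra k K]
  [Algebra K K'] [Algebra k K'] [IsScalarTower k K K']
variable {F F' : Type w} [Field F] [Algebra k F] [Field F'] [Algebra k F']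

omit [Field K'] [Algebra K K'] [Algebra k K'] [IsScalarTower k K K'] in
lemma D_ne_zero_of_expansion (φ : K →ₐ[k] F⸨X⸩) {x : K} (h : LocRes.D F (φ x) ≠ 0) :
    KaehlerDifferential.D k K x ≠ 0 := by
  intro h0
  apply h
  have := D_expansion_eq φ (a := x) (x := x) (r := 0) (by rw [h0, smul_zero])
  rw [this, map_zero, zero_mul]

omit [Field K'] [Algebra K K'] [Algebra k K'] [IsScalarTower k K K'] in
lemma vDiff_one (φ : K →ₐ[k] F⸨X⸩) (x : K) :
    LocRes.vDiff φ 1 x = Valued.v (LocRes.D F (φ x)) := by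
  rw [LocRes.vDiff, map_one, one_mul]

/-- A relation between differentials of `K` persists in `K'`. -/
lemma D_map_eq {a x r : K}
    (h : KaehlerDifferential.D k K a = r • KaehlerDifferential.D k K x) :
    KaehlerDifferential.D k K' (algebraMap K K' a) =
      algebraMap K K' r • KaehlerDifferential.D k K' (algebraMap K K' x) := by
  have := congrArg (KaehlerDifferential.map k k K K') h
  rw [map_smul, KaehlerDifferential.map_D, KaehlerDifferential.map_D] at this
  rw [this, algebraMap_smul]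

/-- How `vDiff` changes with the differential, below and above. -/
lemma vDiff_change {P : Place k K} {Q : Place k K'} {e : ℕ} (he : IsOverWith Q P e)
    {φ : K →ₐ[k] F⸨X⸩} (hφ : IsExpansionAt P.1 φ) {ψ : K' →ₐ[k] F'⸨X⸩}
    (hψ : IsExpansionAt Q.1 ψ) {x x' r : K}
    (hr : KaehlerDifferential.D k K x' = r • KaehlerDifferential.D k K x) :
    LocRes.vDiff φ 1 x' = P.1 r * LocRes.vDiff φ 1 x ∧
      LocRes.vDiff ψ 1 (algebraMap K K' x') =
        P.1 r ^ e * LocRes.vDiff ψ 1 (algebraMap K K' x) := by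
  constructor
  · rw [vDiff_one, vDiff_one, D_expansion_eq φ hr, map_mul, hφ.1]
  · rw [vDiff_one, vDiff_one, D_expansion_eq ψ (D_map_eq hr), map_mul, hψ.1, he r]

/-- The different exponent does not depend on the differential used (S12571). -/
theorem diffExp_eq (hK : IsFunctionField k K) (hg : IsGeometric k K)
    {P : Place k K} {Q : Place k K'} {e : ℕ} (he : IsOverWith Q P e)
    {φ : K →ₐ[k] F⸨X⸩} (hφ : IsExpansionAt P.1 φ) {ψ : K' →ₐ[k] F'⸨X⸩}
    (hψ : IsExpansionAt Q.1 ψ) {x x' : K} (hx : LocRes.vDiff φ 1 x ≠ 0)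
    (hx' : LocRes.vDiff ψ 1 (algebraMap K K' x) ≠ 0) (hx2 : LocRes.vDiff φ 1 x' ≠ 0) :
    LocRes.diffExp φ ψ e x = LocRes.diffExp φ ψ e x' := by
  have hDx : LocRes.D F (φ x) ≠ 0 := by
    rw [vDiff_one] at hx
    exact (Valuation.ne_zero_iff _).mp hx
  have hdx := D_ne_zero_of_expansion φ hDx
  obtain ⟨r, hr⟩ := exists_D_eq_smul hK hg hdx x'
  obtain ⟨v1, v2⟩ := vDiff_change he hφ hψ hr
  have hr0 : P.1 r ≠ 0 := by
    intro h0
    rw [v1, h0, zero_mul] at hx2
    exact hx2 rfl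
  rw [LocRes.diffExp, LocRes.diffExp, LocRes.ordDiff, LocRes.ordDiff, LocRes.ordDiff,
    LocRes.ordDiff, v1, v2, log_mul hr0 hx, log_mul (pow_ne_zero e hr0) hx', log_pow]
  generalize log (P.1 r) = a
  generalize log (LocRes.vDiff φ 1 x) = b
  generalize log (LocRes.vDiff ψ 1 (algebraMap K K' x)) = c
  rw [nsmul_eq_mul]
  ring

section order

variable {L : Type*} [Field L]

/-- The coefficient in degree `m` of a series of exact order `m` is nonzero. -/
lemma coeff_ne_zero_of_v_eq {g : L⸨X⸩} {m : ℤ} (hg : Valued.v g = exp (-m)) : g.coeff m ≠ 0 := by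
  intro h0
  have h1 : ∀ n : ℤ, n < m → g.coeff n = 0 :=
    (LaurentSeries.valuation_le_iff_coeff_lt_eq_zero L (D := m) (f := g)).1 hg.le
  have h2 : Valued.v g ≤ exp (-(m + 1)) := by
    rw [LaurentSeries.valuation_le_iff_coeff_lt_eq_zero L]
    intro n hn
    rcases lt_or_eq_of_le (show n ≤ m by omega) with h | h
    · exact h1 n h
    · rw [h]; exact h0
  rw [hg, exp_le_exp] at h2
  omega

/-- Order of the derivative of a series of exact order `m`, when `m` is invertible. -/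
lemma v_D_eq_of_cast_ne_zero {g : L⸨X⸩} {m : ℤ} (hg : Valued.v g = exp (-m))
    (hm : (m : L) ≠ 0) : Valued.v (LocRes.D L g) = exp (-(m - 1)) := by
  apply le_antisymm (v_D_le g m hg.le)
  by_contra hlt
  rw [not_le] at hlt
  have hc : (LocRes.D L g).coeff (m - 1) ≠ 0 := by
    rw [D_coeff, sub_add_cancel, zsmul_eq_mul]
    exact mul_ne_zero hm (coeff_ne_zero_of_v_eq hg)
  apply hc
  rcases eq_or_ne (LocRes.D L g) 0 with h0 | h0
  · rw [h0]; rfl
  · have hv : Valued.v (LocRes.D L g) ≠ 0 := (Valuation.ne_zero_iff _).mpr h0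
    obtain ⟨l, hl⟩ : ∃ l : ℤ, Valued.v (LocRes.D L g) = exp l := ⟨_, (exp_log hv).symm⟩
    rw [hl, exp_lt_exp] at hlt
    have hle : Valued.v (LocRes.D L g) ≤ exp (-m) := by
      rw [hl, exp_le_exp]; omega
    exact (LaurentSeries.valuation_le_iff_coeff_lt_eq_zero L).1 hle (m - 1) (by omega)

/-- Order of the derivative of a series of exact order `m`, when `m` vanishes in the field. -/
lemma v_D_le_of_cast_eq_zero {g : L⸨X⸩} {m : ℤ} (hg : Valued.v g = exp (-m))
    (hm : (m : L) = 0) : Valued.v (LocRes.D L g) ≤ exp (-m) := by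
  have h1 : ∀ n : ℤ, n < m → g.coeff n = 0 :=
    (LaurentSeries.valuation_le_iff_coeff_lt_eq_zero L (D := m) (f := g)).1 hg.le
  rw [LaurentSeries.valuation_le_iff_coeff_lt_eq_zero L]
  intro n hn
  rw [D_coeff]
  rcases lt_or_eq_of_le (show n + 1 ≤ m by omega) with h | h
  · rw [h1 _ h, smul_zero]
  · rw [h, zsmul_eq_mul, hm, zero_mul]

end order

/-- The different exponent computed through a uniformizer (S12570). -/
theorem diffExp_tame_wild (hK : IsFunctionField k K) (hg : IsGeometric k K)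
    {P : Place k K} {Q : Place k K'} {e : ℕ} (he : IsOverWith Q P e)
    {φ : K →ₐ[k] F⸨X⸩} (hφ : IsExpansionAt P.1 φ) {ψ : K' →ₐ[k] F'⸨X⸩}
    (hψ : IsExpansionAt Q.1 ψ) {x : K} (hx : LocRes.vDiff φ 1 x ≠ 0)
    (hx' : LocRes.vDiff ψ 1 (algebraMap K K' x) ≠ 0) :
    (¬ (ringChar K ∣ e) → LocRes.diffExp φ ψ e x = (e : ℤ) - 1) ∧
    (ringChar K ∣ e → (e : ℤ) ≤ LocRes.diffExp φ ψ e x) := by
  obtain ⟨t, ht⟩ := hφ.2.2
  -- below
  have hvt : Valued.v (φ t) = exp (-(1 : ℤ)) := by rw [hφ.1, ht]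
  have h1 : LocRes.vDiff φ 1 t = 1 := by
    rw [vDiff_one, v_D_eq_of_cast_ne_zero hvt (by simp), sub_self, neg_zero, exp_zero]
  have h1ne : LocRes.vDiff φ 1 t ≠ 0 := by rw [h1]; exact one_ne_zero
  -- relation to `x`
  have hDx : LocRes.D F (φ x) ≠ 0 := by
    rw [vDiff_one] at hx
    exact (Valuation.ne_zero_iff _).mp hx
  have hdx := D_ne_zero_of_expansion φ hDx
  obtain ⟨r, hr⟩ := exists_D_eq_smul hK hg hdx t
  obtain ⟨v1, v2⟩ := vDiff_change he hφ hψ hr
  have hr0 : P.1 r ≠ 0 := by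
    intro h0
    rw [v1, h0, zero_mul] at h1ne
    exact h1ne rfl
  have h2ne : LocRes.vDiff ψ 1 (algebraMap K K' t) ≠ 0 := by
    rw [v2]
    exact mul_ne_zero (pow_ne_zero e hr0) hx'
  rw [diffExp_eq hK hg he hφ hψ hx hx' h1ne]
  -- above
  have hvt' : Valued.v (ψ (algebraMap K K' t)) = exp (-((e : ℕ) : ℤ)) := by
    rw [hψ.1, he t, ht, ← exp_nsmul, nsmul_eq_mul, mul_neg, mul_one]
  have hord0 : LocRes.ordDiff φ 1 t = 0 := by
    rw [LocRes.ordDiff, h1, log_one, neg_zero]
  -- characteristic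
  have hchar : (((e : ℕ) : ℤ) : F') = 0 ↔ ringChar K ∣ e := by
    have hcK : CharP K (ringChar K) := ringChar.charP K
    have hck : CharP k (ringChar K) :=
      (RingHom.charP_iff (algebraMap k K) (algebraMap k K).injective _).2 hcK
    have hcF : CharP F' (ringChar K) :=
      (RingHom.charP_iff (algebraMap k F') (algebraMap k F').injective _).1 hck
    rw [Int.cast_natCast]
    exact CharP.cast_eq_zero_iff F' (ringChar K) e
  rw [LocRes.diffExp, hord0, mul_zero, sub_zero]
  constructor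
  · intro hnd
    have hm : (((e : ℕ) : ℤ) : F') ≠ 0 := fun h => hnd (hchar.1 h)
    rw [LocRes.ordDiff, vDiff_one, v_D_eq_of_cast_ne_zero hvt' hm, log_exp, neg_neg]
  · intro hd
    have hm : (((e : ℕ) : ℤ) : F') = 0 := hchar.2 hd
    have hle := v_D_le_of_cast_eq_zero hvt' hm
    rw [← vDiff_one] at hle
    obtain ⟨l, hl⟩ : ∃ l : ℤ, LocRes.vDiff ψ 1 (algebraMap K K' t) = exp l :=
      ⟨_, (exp_log h2ne).symm⟩
    rw [hl, exp_le_exp] at hle
    rw [LocRes.ordDiff, hl, log_exp]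
    omega

end Geom
end FunFld
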