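import Groth.Agent.Lib.Helper5.Geom.Deriv
import Mathlib.RingTheory.Etale.Kaehler
import Mathlib.RingTheory.Etale.Field

/-! The differential of a separating transcendental element is nonzero; `dim Ω = 1` (helper5). -/

set_option autoImplicit false

universe u v

namespace FunFld
namespace Geom

open TensorProduct Polynomial
open scoped IntermediateField.algebraAdjoinAdjoin

variable {k : Type u} {K : Type v} [Field k] [Field K] [Algebra k K]

/-- The derivation `d/dx₀ : k[x₀] → K` for a transcendental `x₀`. -/
noncomputable def dAdjoin {x₀ : K} (h : Transcendental k x₀) :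
    Derivation k (Algebra.adjoin k ({x₀} : Set K)) K where
  toFun a := aeval x₀ (derivative ((algEquivOfTranscendental k x₀ h).symm a))
  map_add' a b := by rw [map_add, map_add, map_add]
  map_smul' c a := by
    rw [map_smul, derivative_smul, map_smul, RingHom.id_apply]
  map_one_eq_zero' := by
    show aeval x₀ (derivative ((algEquivOfTranscendental k x₀ h).symm 1)) = 0
    rw [map_one, derivative_one, map_zero]
  leibniz' a b := by
    have key : ∀ c : Algebra.adjoin k ({x₀} : Set K),
        aeval x₀ ((algEquivOfTranscendental k x₀ h).symm c) = (c : K) := by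
      intro c
      have h1 := (algEquivOfTranscendental k x₀ h).apply_symm_apply c
      rw [algEquivOfTranscendental_apply] at h1
      have h2 := congrArg (Subtype.val) h1
      rw [← h2, aeval_subalgebra_coe]
    show aeval x₀ (derivative ((algEquivOfTranscendental k x₀ h).symm (a * b))) =
      a • aeval x₀ (derivative ((algEquivOfTranscendental k x₀ h).symm b)) +
      b • aeval x₀ (derivative ((algEquivOfTranscendental k x₀ h).symm a))
    rw [map_mul, derivative_mul, map_add, map_mul, map_mul, key, key, Algebra.smul_def,
      Algebra.smul_def]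
    show _ = (a : K) * _ + (b : K) * _
    ring

lemma dAdjoin_self {x₀ : K} (h : Transcendental k x₀) :
    dAdjoin h ⟨x₀, Algebra.self_mem_adjoin_singleton k x₀⟩ = 1 := by
  show aeval x₀ (derivative ((algEquivOfTranscendental k x₀ h).symm _)) = 1
  have : (algEquivOfTranscendental k x₀ h).symm ⟨x₀, Algebra.self_mem_adjoin_singleton k x₀⟩ = X := by
    rw [AlgEquiv.symm_apply_eq, algEquivOfTranscendental_apply_X]
  rw [this, derivative_X, map_one]

/-- The differential of a transcendental element over which `K` is separable is nonzero. -/
theorem D_ne_zero_of_isSeparable {x₀ : K} (h : Transcendental k x₀)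
    [Algebra.IsSeparable (IntermediateField.adjoin k ({x₀} : Set K)) K] :
    KaehlerDifferential.D k K x₀ ≠ 0 := by
  set A := Algebra.adjoin k ({x₀} : Set K) with hA
  have h1 : Algebra.FormallyEtale (IntermediateField.adjoin k ({x₀} : Set K)) K :=
    Algebra.FormallyEtale.of_isSeparable _ _
  have h2 : Algebra.FormallyEtale A (IntermediateField.adjoin k ({x₀} : Set K)) :=
    Algebra.FormallyEtale.of_isLocalization (nonZeroDivisors A)
  have h3 : Algebra.FormallyEtale A K :=
    Algebra.FormallyEtale.comp A (IntermediateField.adjoin k ({x₀} : Set K)) K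
  intro h0
  let x₀' : A := ⟨x₀, Algebra.self_mem_adjoin_singleton k x₀⟩
  have e1 := KaehlerDifferential.tensorKaehlerEquivOfFormallyEtale_symm_D_algebraMap k A K x₀'
  have e2 : algebraMap A K x₀' = x₀ := rfl
  rw [e2, h0, map_zero] at e1
  have e3 := congrArg (LinearMap.liftBaseChange K (dAdjoin h).liftKaehlerDifferential) e1
  rw [map_zero, LinearMap.liftBaseChange_tmul, one_smul,
    Derivation.liftKaehlerDifferential_comp_D, dAdjoin_self] at e3
  exact zero_ne_one e3

end Geom
end FunFld

namespace FunFld
namespace Geom

variable {k : Type u} {K : Type v} [Field k] [Field K] [Algebra k K]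

/-- Every differential of a geometric function field is a multiple of `dx`, `dx ≠ 0`. -/
theorem exists_eq_smul_D (hK : IsFunctionField k K) (hg : IsGeometric k K) {x : K}
    (hx : KaehlerDifferential.D k K x ≠ 0) (ω : Ω[K⁄k]) :
    ∃ c : K, c • KaehlerDifferential.D k K x = ω := by
  have hspan := KaehlerDifferential.span_range_derivation k K
  have hle : Submodule.span K (Set.range (KaehlerDifferential.D k K)) ≤
      Submodule.span K {KaehlerDifferential.D k K x} := by
    rw [Submodule.span_le]
    rintro _ ⟨a, rfl⟩
    obtain ⟨r, hr⟩ := exists_D_eq_smul hK hg hx a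
    rw [SetLike.mem_coe, hr]
    exact Submodule.smul_mem _ _ (Submodule.mem_span_singleton_self _)
  have hω : ω ∈ Submodule.span K {KaehlerDifferential.D k K x} := hle (hspan ▸ Submodule.mem_top)
  exact Submodule.mem_span_singleton.1 hω

/-- A geometric function field has an element with nonzero differential. -/
theorem exists_D_ne_zero (hK : IsFunctionField k K) (hg : IsGeometric k K) :
    ∃ x : K, KaehlerDifferential.D k K x ≠ 0 := by
  obtain ⟨x₀, htr, hsep⟩ := exists_separating hK hg
  exact ⟨x₀, D_ne_zero_of_isSeparable htr⟩

/-- `dim_K Ω_{K/k} = 1` for a geometric function field (S11003). -/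
theorem finrank_kaehlerDifferential (hK : IsFunctionField k K) (hg : IsGeometric k K) :
    Module.finrank K (Ω[K⁄k]) = 1 := by
  obtain ⟨x, hx⟩ := exists_D_ne_zero hK hg
  exact (finrank_eq_one_iff_of_nonzero' _ hx).2 (exists_eq_smul_D hK hg hx)

end Geom
end FunFld
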