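import Groth.Agent.Lib.Helper5.Geom.OmegaRank
import Mathlib.FieldTheory.PurelyInseparable.PerfectClosure

/-! `k K^p`, its index and the kernel of `d` (helper5). -/

set_option autoImplicit false

universe u v

namespace FunFld
namespace Geom

open IntermediateField

variable {k : Type u} {K : Type v} [Field k] [Field K] [Algebra k K]

/-- The field of constants of a derivation. -/
def kerD {M : Type*} [AddCommGroup M] [Module K M] [Module k M]
    (δ : Derivation k K M) : IntermediateField k K where
  carrier := {y | δ y = 0}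
  mul_mem' {a b} ha hb := by
    show δ (a * b) = 0
    rw [Derivation.leibniz, show δ a = 0 from ha, show δ b = 0 from hb, smul_zero, smul_zero,
      add_zero]
  one_mem' := δ.map_one_eq_zero
  add_mem' {a b} ha hb := by
    show δ (a + b) = 0
    rw [map_add, show δ a = 0 from ha, show δ b = 0 from hb, add_zero]
  zero_mem' := map_zero δ
  algebraMap_mem' c := δ.map_algebraMap c
  inv_mem' a ha := by
    show δ a⁻¹ = 0
    rw [Derivation.leibniz_inv, show δ a = 0 from ha, smul_zero]

lemma mem_kerD {M : Type*} [AddCommGroup M] [Module K M] [Module k M]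
    (δ : Derivation k K M) (y : K) : y ∈ kerD δ ↔ δ y = 0 := Iff.rfl

variable (k K) in
/-- `k K^p`. -/
def kKp (p : ℕ) : IntermediateField k K := adjoin k (Set.range fun y : K => y ^ p)

/-- Derivations kill `k K^p`. -/
lemma kKp_le_kerD (p : ℕ) [CharP K p] {M : Type*} [AddCommGroup M] [Module K M] [Module k M]
    (δ : Derivation k K M) : kKp k K p ≤ kerD δ := by
  rw [kKp, adjoin_le_iff]
  rintro _ ⟨y, rfl⟩
  show δ (y ^ p) = 0
  rw [Derivation.leibniz_pow, ← Nat.cast_smul_eq_nsmul K, CharP.cast_eq_zero K p, zero_smul]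

/-- Over a separating element, `K = k K^p (x₀)`. -/
lemma adjoin_kKp_eq_top (p : ℕ) [Fact p.Prime] [CharP K p] {x₀ : K}
    [Algebra.IsSeparable (adjoin k ({x₀} : Set K)) K] :
    adjoin (kKp k K p) ({x₀} : Set K) = ⊤ := by
  have hE : ExpChar (adjoin k ({x₀} : Set K)) p := by
    have : CharP (adjoin k ({x₀} : Set K)) p :=
      (RingHom.charP_iff (algebraMap (adjoin k ({x₀} : Set K)) K)
        (algebraMap (adjoin k ({x₀} : Set K)) K).injective p).2 inferInstance
    exact ExpChar.prime (Fact.out)
  have h1 := adjoin_eq_adjoin_pow_expChar_of_isSeparable' (adjoin k ({x₀} : Set K)) K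
    (Set.univ : Set K) p
  rw [adjoin_univ, Set.image_univ] at h1
  apply restrictScalars_injective k
  rw [restrictScalars_top, kKp, adjoin_adjoin_left, Set.union_comm, ← adjoin_adjoin_left, ← h1,
    restrictScalars_top]

/-- `[K : k K^p] = p` (S11001). -/
theorem finrank_kKp (p : ℕ) [Fact p.Prime] [CharP K p] (hK : IsFunctionField k K)
    (hg : IsGeometric k K) : Module.finrank (kKp k K p) K = p := by
  obtain ⟨x₀, htr, hsep⟩ := exists_separating hK hg
  have hD : KaehlerDifferential.D k K x₀ ≠ 0 := D_ne_zero_of_isSeparable htr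
  have htop : adjoin (kKp k K p) ({x₀} : Set K) = ⊤ := adjoin_kKp_eq_top p
  have hx₀M : x₀ ∉ kKp k K p := fun h => hD (kKp_le_kerD p (KaehlerDifferential.D k K) h)
  have hpow : x₀ ^ p ∈ kKp k K p := subset_adjoin k _ ⟨x₀, rfl⟩
  have hM : ExpChar (kKp k K p) p := by
    have : CharP (kKp k K p) p :=
      (RingHom.charP_iff (algebraMap (kKp k K p) K)
        (algebraMap (kKp k K p) K).injective p).2 inferInstance
    exact ExpChar.prime (Fact.out)
  have hint : IsIntegral (kKp k K p) x₀ := by
    refine ⟨Polynomial.X ^ p - Polynomial.C (⟨x₀ ^ p, hpow⟩ : kKp k K p),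
      Polynomial.monic_X_pow_sub_C _ (Fact.out : p.Prime).ne_zero, ?_⟩
    rw [Polynomial.eval₂_sub, Polynomial.eval₂_pow, Polynomial.eval₂_X, Polynomial.eval₂_C]
    exact sub_self _
  have hpi : IsPurelyInseparable (kKp k K p) (adjoin (kKp k K p) ({x₀} : Set K)) :=
    (isPurelyInseparable_adjoin_simple_iff_pow_mem (kKp k K p) K p).2
      ⟨1, ⟨⟨x₀ ^ p, hpow⟩, by rw [pow_one]; rfl⟩⟩
  have hfd : FiniteDimensional (kKp k K p) (adjoin (kKp k K p) ({x₀} : Set K)) :=
    adjoin.finiteDimensional hint
  obtain ⟨n, hn⟩ := IsPurelyInseparable.finrank_eq_pow (kKp k K p)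
    (adjoin (kKp k K p) ({x₀} : Set K)) p
  have hdeg : Module.finrank (kKp k K p) (adjoin (kKp k K p) ({x₀} : Set K)) ≤ p := by
    rw [adjoin.finrank hint]
    have hdvd : minpoly (kKp k K p) x₀ ∣
        Polynomial.X ^ p - Polynomial.C (⟨x₀ ^ p, hpow⟩ : kKp k K p) := by
      apply minpoly.dvd
      rw [Polynomial.aeval_def, Polynomial.eval₂_sub, Polynomial.eval₂_pow, Polynomial.eval₂_X,
        Polynomial.eval₂_C]
      exact sub_self _
    have := Polynomial.natDegree_le_of_dvd hdvd
      (Polynomial.monic_X_pow_sub_C _ (Fact.out : p.Prime).ne_zero).ne_zero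
    rwa [Polynomial.natDegree_X_pow_sub_C] at this
  have hne1 : Module.finrank (kKp k K p) (adjoin (kKp k K p) ({x₀} : Set K)) ≠ 1 := by
    intro h1
    rw [finrank_adjoin_simple_eq_one_iff, mem_bot] at h1
    obtain ⟨m, hm⟩ := h1
    exact hx₀M (hm ▸ m.2)
  have hfin : Module.finrank (kKp k K p) (adjoin (kKp k K p) ({x₀} : Set K)) = p := by
    rw [hn] at hdeg hne1 ⊢
    have hp := (Fact.out : p.Prime)
    rcases n with _ | n
    · exact absurd (pow_zero p) hne1
    · rcases n with _ | n
      · exact pow_one p
      · exfalso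
        have : p ^ 2 ≤ p ^ (n + 1 + 1) := Nat.pow_le_pow_right hp.pos (by omega)
        have h2 : p * 2 ≤ p ^ 2 := by rw [pow_two]; exact Nat.mul_le_mul_left p hp.two_le
        have := hp.pos
        omega
  rw [htop, finrank_top'] at hfin
  exact hfin

/-- `x ∈ k K^p ↔ dx = 0` (S11002, first part). -/
theorem mem_kKp_iff_D_eq_zero (p : ℕ) [Fact p.Prime] [CharP K p] (hK : IsFunctionField k K)
    (hg : IsGeometric k K) (x : K) :
    x ∈ kKp k K p ↔ KaehlerDifferential.D k K x = 0 := by
  constructor
  · intro h
    exact kKp_le_kerD p (KaehlerDifferential.D k K) h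
  · intro hx
    by_contra hxM
    have hprime : (Module.finrank (kKp k K p) K).Prime := by
      rw [finrank_kKp p hK hg]; exact Fact.out
    have hso := isSimpleOrder_of_finrank_prime (kKp k K p) K hprime
    rcases eq_bot_or_eq_top (adjoin (kKp k K p) ({x} : Set K)) with hb | ht
    · have : x ∈ adjoin (kKp k K p) ({x} : Set K) := mem_adjoin_simple_self _ x
      rw [hb, mem_bot] at this
      obtain ⟨m, hm⟩ := this
      exact hxM (hm ▸ m.2)
    · obtain ⟨x₁, hx₁⟩ := exists_D_ne_zero hK hg
      apply hx₁
      have hle : (adjoin (kKp k K p) ({x} : Set K)).restrictScalars k ≤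
          kerD (KaehlerDifferential.D k K) := by
        rw [kKp, adjoin_adjoin_left, adjoin_le_iff]
        rintro y (hy | hy)
        · exact kKp_le_kerD p (KaehlerDifferential.D k K) (subset_adjoin k _ hy)
        · rw [Set.mem_singleton_iff] at hy
          rw [hy]
          exact hx
      rw [ht] at hle
      exact hle (show x₁ ∈ (⊤ : IntermediateField (kKp k K p) K).restrictScalars k from trivial)

open scoped IntermediateField.algebraAdjoinAdjoin in
/-- An element with nonzero differential is separating (formally unramified form). -/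
theorem formallyUnramified_of_D_ne_zero (hK : IsFunctionField k K) (hg : IsGeometric k K) {x : K}
    (hx : KaehlerDifferential.D k K x ≠ 0) :
    Algebra.FormallyUnramified (Algebra.adjoin k ({x} : Set K)) K := by
  set A := Algebra.adjoin k ({x} : Set K) with hA
  constructor
  let D' : Derivation k K (Ω[K⁄A]) := (KaehlerDifferential.D A K).restrictScalars k
  have hs : D' x = 0 := by
    show KaehlerDifferential.D A K x = 0
    exact Derivation.map_algebraMap (KaehlerDifferential.D A K)
      (⟨x, Algebra.self_mem_adjoin_singleton k x⟩ : A)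
  have h0 := derivation_eq_zero hK hg hx D' hs
  have hD : ∀ a, KaehlerDifferential.D A K a = 0 := by
    intro a
    have := congrArg (fun D : Derivation k K (Ω[K⁄A]) => D a) h0
    exact this
  have htop := KaehlerDifferential.span_range_derivation A K
  have hbot : Submodule.span K (Set.range (KaehlerDifferential.D A K)) = ⊥ := by
    rw [Submodule.span_eq_bot]
    rintro _ ⟨a, rfl⟩
    exact hD a
  rw [hbot] at htop
  refine ⟨fun a b => ?_⟩
  have ha : a ∈ (⊤ : Submodule K (Ω[K⁄A])) := trivial
  have hb : b ∈ (⊤ : Submodule K (Ω[K⁄A])) := trivial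
  rw [← htop, Submodule.mem_bot] at ha hb
  rw [ha, hb]

open scoped IntermediateField.algebraAdjoinAdjoin in
/-- An element with nonzero differential is a separating variable. -/
theorem isSeparable_of_D_ne_zero (hK : IsFunctionField k K) (hg : IsGeometric k K) {x : K}
    (hx : KaehlerDifferential.D k K x ≠ 0) :
    Algebra.IsSeparable (adjoin k ({x} : Set K)) K := by
  have h1 := formallyUnramified_of_D_ne_zero hK hg hx
  have h2 : Algebra.FormallyUnramified (adjoin k ({x} : Set K)) K :=
    Algebra.FormallyUnramified.of_restrictScalars (Algebra.adjoin k ({x} : Set K)) _ _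
  have h3 := SV.essFiniteType hK
  have h4 : Algebra.EssFiniteType (adjoin k ({x} : Set K)) K :=
    Algebra.EssFiniteType.of_comp k _ K
  exact Algebra.FormallyUnramified.isSeparable _ K

/-- A separating variable is transcendental. -/
theorem transcendental_of_isSeparable (hK : IsFunctionField k K) {x : K}
    (h : Algebra.IsSeparable (adjoin k ({x} : Set K)) K) : Transcendental k x := by
  intro halg
  obtain ⟨⟨t, ht, -⟩, -⟩ := hK
  apply ht
  have h1 : Algebra.IsAlgebraic k (adjoin k ({x} : Set K)) :=
    isAlgebraic_adjoin_simple halg.isIntegral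
  have h2 : Algebra.IsAlgebraic (adjoin k ({x} : Set K)) K := Algebra.IsSeparable.isAlgebraic _ _
  have h3 : Algebra.IsAlgebraic k K := Algebra.IsAlgebraic.trans k (adjoin k ({x} : Set K)) K
  exact h3.isAlgebraic t

/-- `x ∈ k K^p ↔ x` is not a separating variable (S11002, second part). -/
theorem mem_kKp_iff_not_isSeparable (p : ℕ) [Fact p.Prime] [CharP K p]
    (hK : IsFunctionField k K) (hg : IsGeometric k K) (x : K) :
    x ∈ kKp k K p ↔ ¬ Algebra.IsSeparable (adjoin k ({x} : Set K)) K := by
  rw [mem_kKp_iff_D_eq_zero p hK hg]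
  constructor
  · intro hx hsep
    exact D_ne_zero_of_isSeparable (transcendental_of_isSeparable hK hsep) hx
  · intro hns
    by_contra hx
    exact hns (isSeparable_of_D_ne_zero hK hg hx)

end Geom
end FunFld
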