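import Groth.Agent.Lib.Helper5.SV.Sep
import Groth.Agent.Lib.Helper5.SepGen

/-! Geometric function fields have separating elements (helper5). -/

set_option autoImplicit false

universe u v

namespace FunFld
namespace Geom

open TensorProduct
open scoped IntermediateField.algebraAdjoinAdjoin

/-- Core computation: if `k' ⊗ K` is a field and `k'` contains `p`-th roots of the coefficients
of a relation among `p`-th powers, the relation is trivial. -/
theorem coeff_eq_zero_of_isField_tensor
    {k : Type u} {K : Type v} {k' : Type*} [Field k] [Field K] [Algebra k K] [Field k']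
    [Algebra k k'] (hT : IsField (k' ⊗[k] K))
    (p : ℕ) (hp : p.Prime) [CharP k p] (s : Finset K)
    (hs : LinearIndepOn k _root_.id (s : Set K)) (t : Finset ↥(s : Set K))
    (g : ↥(s : Set K) → k) (d' : ↥(s : Set K) → k')
    (hd' : ∀ j ∈ t, (d' j) ^ p = algebraMap k k' (g j))
    (hg0 : ∑ i ∈ t, g i • (i : K) ^ p = 0) : ∀ i ∈ t, g i = 0 := by
  classical
  intro i hi
  have hfact : Fact p.Prime := ⟨hp⟩
  have : IsDomain (k' ⊗[k] K) := hT.isDomain
  have hcharkb : CharP k' p := charP_of_injective_algebraMap (algebraMap k k').injective p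
  have hinjT : Function.Injective (algebraMap k' (k' ⊗[k] K)) :=
    Algebra.TensorProduct.includeLeft_injective (S := k') (algebraMap k K).injective
  have hcharT : CharP (k' ⊗[k] K) p := charP_of_injective_algebraMap hinjT p
  let z : k' ⊗[k] K := ∑ j ∈ t, d' j ⊗ₜ[k] (j : K)
  have hz : z ^ p = 0 := by
    rw [sum_pow_char]
    have : ∀ j ∈ t, (d' j ⊗ₜ[k] (j : K)) ^ p = (1 : k') ⊗ₜ[k] (g j • (j : K) ^ p) := by
      intro j hj
      rw [Algebra.TensorProduct.tmul_pow, hd' j hj, Algebra.algebraMap_eq_smul_one,
        TensorProduct.smul_tmul]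
    rw [Finset.sum_congr rfl this, ← TensorProduct.tmul_sum, hg0, TensorProduct.tmul_zero]
  have hz0 : z = 0 := IsReduced.eq_zero _ ⟨p, hz⟩
  have hli : LinearIndependent k' (fun j : (s : Set K) => (1 : k') ⊗ₜ[k] (j : K)) :=
    Module.Flat.linearIndependent_one_tmul hs
  have hz' : ∑ j ∈ t, d' j • ((1 : k') ⊗ₜ[k] (j : K)) = 0 := by
    rw [← hz0]
    refine Finset.sum_congr rfl (fun j _ => ?_)
    rw [TensorProduct.smul_tmul', smul_eq_mul, mul_one]
  have hdi := linearIndependent_iff'.mp hli t (fun j => d' j) hz' i hi
  have : algebraMap k k' (g i) = 0 := by rw [← hd' i hi, hdi, zero_pow hp.ne_zero]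
  exact (map_eq_zero_iff _ (algebraMap k k').injective).mp this

/-- MacLane's criterion for geometric extensions, via a finite extension containing the needed
`p`-th roots. -/
theorem linearIndepOn_pow_of_isGeometric
    {k : Type u} {K : Type v} [Field k] [Field K] [Algebra k K] (hg : IsGeometric k K)
    (p : ℕ) (hp : p.Prime) [ExpChar k p] (s : Finset K)
    (hs : LinearIndepOn k _root_.id (s : Set K)) : LinearIndepOn k (· ^ p) (s : Set K) := by
  classical
  have hchar : CharP k p := by
    cases ‹ExpChar k p› with
    | zero => exact absurd hp Nat.not_prime_one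
    | prime _ => assumption
  rw [LinearIndepOn, linearIndependent_iff']
  intro t g hg0 i hi
  -- p-th roots
  have hroot : ∀ c : k, ∃ d : AlgebraicClosure k, d ^ p = algebraMap k (AlgebraicClosure k) c :=
    fun c => IsAlgClosed.exists_pow_nat_eq _ hp.pos
  choose d hd using hroot
  let S : Set (AlgebraicClosure k) :=
    ((t.image fun j => d (g j) : Finset (AlgebraicClosure k)) : Set (AlgebraicClosure k))
  obtain ⟨k', hk'⟩ : ∃ k' : IntermediateField k (AlgebraicClosure k),
      k' = IntermediateField.adjoin k S := ⟨_, rfl⟩
  have hfin : FiniteDimensional k k' := by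
    rw [hk']
    apply IntermediateField.finiteDimensional_adjoin
    intro x _
    exact Algebra.IsIntegral.isIntegral x
  have hmem : ∀ j ∈ t, d (g j) ∈ k' := fun j hj => hk' ▸
    IntermediateField.subset_adjoin k S (by
      show d (g j) ∈ ((t.image fun j => d (g j) : Finset (AlgebraicClosure k)) :
        Set (AlgebraicClosure k))
      rw [Finset.mem_coe]
      exact Finset.mem_image_of_mem _ hj)
  have hT : IsField (k' ⊗[k] K) := hg k' hfin
  let d' : ↥(s : Set K) → k' := fun j => if hj : j ∈ t then ⟨d (g j), hmem j hj⟩ else 0
  have hd' : ∀ j ∈ t, (d' j) ^ p = algebraMap k k' (g j) := by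
    intro j hj
    apply Subtype.ext
    simp only [d', dif_pos hj]
    exact hd (g j)
  exact coeff_eq_zero_of_isField_tensor hT p hp s hs t g d' hd' hg0 i hi

/-- A geometric function field of one variable has a separating transcendental element. -/
theorem exists_separating
    {k : Type u} {K : Type v} [Field k] [Field K] [Algebra k K]
    (hK : IsFunctionField k K) (hg : IsGeometric k K) :
    ∃ x : K, Transcendental k x ∧
      Algebra.IsSeparable (IntermediateField.adjoin k ({x} : Set K)) K := by
  classical
  have := SV.essFiniteType hK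
  obtain ⟨S, hS, hsep⟩ : ∃ s : Finset K, IsTranscendenceBasis k ((↑) : s → K) ∧
      Algebra.IsSeparable (IntermediateField.adjoin k (s : Set K)) K := by
    obtain _ | ⟨p, hp, hpk⟩ := CharP.exists' k
    · exact exists_isTranscendenceBasis_and_isSeparable_of_perfectField k K
    · have : ExpChar k p := .prime hp.out
      exact exists_isTranscendenceBasis_and_isSeparable_of_linearIndepOn_pow_of_essFiniteType
        (k := k) (K := K) p hp.out
        (fun s hs => linearIndepOn_pow_of_isGeometric hg p hp.out s hs)
  obtain ⟨⟨t, ht, hfin⟩, -⟩ := hK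
  -- the transcendence degree is one
  have halg : Algebra.IsAlgebraic (Algebra.adjoin k ({t} : Set K)) K := by
    have h1 : Algebra.IsAlgebraic (IntermediateField.adjoin k ({t} : Set K)) K :=
      Algebra.IsAlgebraic.of_finite _ _
    exact Algebra.IsAlgebraic.trans (Algebra.adjoin k ({t} : Set K))
      (IntermediateField.adjoin k ({t} : Set K)) K
  have hle : Algebra.trdeg k K ≤ 1 := by
    have := Algebra.IsAlgebraic.trdeg_le_cardinalMk k ({t} : Set K)
    simpa using this
  have hge : 1 ≤ Algebra.trdeg k K := by
    have hai : AlgebraicIndependent k (fun _ : PUnit => t) :=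
      algebraicIndependent_unique_type_iff.2 ht
    have := hai.cardinalMk_le_trdeg
    simpa using this
  have hcard : S.card = 1 := by
    have h1 := hS.cardinalMk_eq_trdeg
    rw [Cardinal.mk_coe_finset] at h1
    have h2 : (S.card : Cardinal) = 1 := by rw [h1]; exact le_antisymm hle hge
    exact_mod_cast h2
  obtain ⟨x, rfl⟩ := Finset.card_eq_one.1 hcard
  rw [Finset.coe_singleton] at hsep
  refine ⟨x, ?_, hsep⟩
  have := hS.1.transcendental ⟨x, Finset.mem_singleton_self x⟩
  exact this

/-- A geometric function field of one variable has a separating element. -/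
theorem exists_formallyUnramified_adjoin
    {k : Type u} {K : Type v} [Field k] [Field K] [Algebra k K]
    (hK : IsFunctionField k K) (hg : IsGeometric k K) :
    ∃ x : K, Algebra.FormallyUnramified (Algebra.adjoin k ({x} : Set K)) K := by
  obtain ⟨x, -, hsep⟩ := exists_separating hK hg
  refine ⟨x, ?_⟩
  have h1 : Algebra.FormallyUnramified (IntermediateField.adjoin k ({x} : Set K)) K :=
    .of_isSeparable _ _
  have h2 : Algebra.FormallyUnramified (Algebra.adjoin k ({x} : Set K))
      (IntermediateField.adjoin k ({x} : Set K)) :=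
    .of_isLocalization (nonZeroDivisors _)
  exact .comp _ (IntermediateField.adjoin k ({x} : Set K)) _


end Geom
end FunFld
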