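import Groth.Agent.Lib.Helper5.Geom.SepRes
import Groth.Agent.Lib.Helper5.FunFld.Weil2

/-! Kähler differentials versus Weil differentials for geometric function fields (helper5). -/

set_option autoImplicit false

universe u v w

namespace FunFld
namespace Geom

open LocRes WithZero

variable {k : Type u} {K : Type v} [Field k] [Field K] [Algebra k K]
variable (hK : IsFunctionField k K) (hg : IsGeometric k K)
variable (F : Place k K → Type w) [∀ P, Field (F P)] [∀ P, Algebra k (F P)]
  [∀ P, FiniteDimensional k (F P)]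
variable (φ : ∀ P, K →ₐ[k] LaurentSeries (F P)) (hφ : ∀ P, IsExpansionAt P.1 (φ P))
variable (v : K) (hv : KaehlerDifferential.D k K v ≠ 0)

include hK hg hφ hv in
lemma hnd_of_geometric :
    ∀ P (l : F P), l ≠ 0 → ∃ c : F P, Algebra.trace k (F P) (c * l) ≠ 0 :=
  fun P l hl => exists_trace_ne_zero hK hg hv (hφ P) l hl

include hK hg hφ hv in
lemma hv_of_geometric : ∀ P, LocRes.D (F P) (φ P v) ≠ 0 :=
  fun P => D_expansion_ne_zero hK hg hv (hφ P)

include hK hg hφ hv in
/-- The divisor of `dv`. -/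
lemma exists_divisor_dv : ∃ C : Divisor k K, (∀ P, C P = LocRes.ordDiff (φ P) 1 v) ∧
    IsDivOf (omegaDiff hK F φ hφ 1 v) C ∧ omegaDiff hK F φ hφ 1 v ≠ 0 := by
  obtain ⟨hne, hfin, hdiv⟩ := omegaDiff_isDivOf hK F φ hφ 1 v
    (hnd_of_geometric hK hg F φ hφ v hv) one_ne_zero (hv_of_geometric hK hg F φ hφ v hv)
  exact ⟨Finsupp.ofSupportFinite _ hfin, fun P => rfl, hdiv _ (fun P => rfl), hne⟩

include hK in
/-- `u · (dv)` as Weil differentials. -/
lemma mulW_omegaDiff_one (u : K) :
    mulW u (smul_mem_adele hK u) (omegaDiff hK F φ hφ 1 v) = omegaDiff hK F φ hφ u v := by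
  ext a
  rw [mulW_apply, omegaDiff_apply, omegaDiff_apply]
  refine finsum_congr fun P => ?_
  show LocRes.locRes (φ P) (u * (a : Place k K → K) P * 1) v = _
  rw [mul_one, mul_comm]

include hφ in
/-- `vDiff` of `y dv` in terms of `dv`. -/
lemma vDiff_eq_mul (y : K) (P : Place k K) :
    LocRes.vDiff (φ P) y v = P.1 y * LocRes.vDiff (φ P) 1 v := by
  rw [LocRes.vDiff, LocRes.vDiff, map_one, one_mul, map_mul, (hφ P).1]

end Geom
end FunFld
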